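/-
Purely inseparable unramified extensions of Henselian discrete valuation rings.
-/
import Mathlib
import Groth.Agent.S1964

set_option autoImplicit false
set_option linter.style.haveILetI false
set_option backward.isDefEq.respectTransparency false
universe u

open Polynomial IsLocalRing

namespace Groth.Agent.PInsepDVR

noncomputable section

variable {R : Type u} [CommRing R] {Ω : Type u} [Field Ω] [Algebra R Ω] (ϖ : R) (p : ℕ)

/-- A subalgebra unramified with purely inseparable residue field, a union of finite free ones. -/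
structure Good (T : Subalgebra R Ω) : Prop where
  fin : ∀ s : Finset Ω, (↑s : Set Ω) ⊆ T → ∃ S : Subalgebra R Ω, S ≤ T ∧ (↑s : Set Ω) ⊆ S ∧ Module.Finite R S ∧
    Module.Free R S ∧ ∃ m : ℕ, Module.finrank R S = p ^ m
  max : ∀ x ∈ T, (∃ y ∈ T, algebraMap R Ω ϖ * y = x) ∨ ∃ a ∈ T, ∃ b ∈ T, a * x = 1 + algebraMap R Ω ϖ * b
  insep : ∀ y ∈ T, ∃ (m : ℕ) (c : R), ∃ w ∈ T, algebraMap R Ω c - y ^ p ^ m = algebraMap R Ω ϖ * w

variable {ϖ p}

theorem Good.isIntegral {T : Subalgebra R Ω} (hT : Good ϖ p T) : Algebra.IsIntegral R T := by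
  classical
  refine ⟨fun x => ?_⟩
  obtain ⟨S, hST, hsS, hfin, -, -⟩ := hT.fin {x.1} (by simp)
  haveI := hfin
  exact (Algebra.IsIntegral.isIntegral (R := R) (⟨x.1, hsS (by simp)⟩ : S)).map (Subalgebra.inclusion hST)

variable [IsDomain R] [IsDiscreteValuationRing R] [HenselianLocalRing R]

theorem good_bot (hinj : Function.Injective (algebraMap R Ω)) (hϖ : Irreducible ϖ) :
    Good (Ω := Ω) ϖ p ⊥ := by
  refine ⟨fun s hs => ⟨⊥, le_rfl, hs, ?_, ?_, 0, ?_⟩, fun x hx => ?_, fun y hy => ?_⟩
  · exact Module.Finite.equiv (Algebra.botEquivOfInjective hinj).symm.toLinearEquiv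
  · exact Module.Free.of_equiv (Algebra.botEquivOfInjective hinj).symm.toLinearEquiv
  · rw [(Algebra.botEquivOfInjective hinj).toLinearEquiv.finrank_eq, Module.finrank_self, pow_zero]
  · obtain ⟨r, rfl⟩ := Algebra.mem_bot.mp hx
    by_cases hr : IsUnit r
    · obtain ⟨a, rfl⟩ := hr
      exact Or.inr ⟨_, Subalgebra.algebraMap_mem _ ↑a⁻¹, 0, zero_mem _, by rw [← map_mul]; simp⟩
    · have hm : r ∈ Ideal.span {ϖ} := by
        rw [← (IsDiscreteValuationRing.irreducible_iff_uniformizer ϖ).mp hϖ]
        exact (mem_maximalIdeal r).mpr hr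
      obtain ⟨c, rfl⟩ := Ideal.mem_span_singleton.mp hm
      exact Or.inl ⟨_, Subalgebra.algebraMap_mem _ c, (map_mul _ _ _).symm⟩
  · obtain ⟨r, rfl⟩ := Algebra.mem_bot.mp hy
    exact ⟨0, r, 0, zero_mem _, by simp⟩

omit [IsDomain R] [IsDiscreteValuationRing R] [HenselianLocalRing R] in
theorem good_sSup {c : Set (Subalgebra R Ω)} (hc : ∀ T ∈ c, Good ϖ p T) (hch : IsChain (· ≤ ·) c) (hne : c.Nonempty) :
    Good ϖ p (sSup c) := by
  classical
  haveI : Nonempty c := hne.to_subtype
  have hdir : Directed (· ≤ ·) fun T : c => T.1 := (hch.directedOn).directed_val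
  have hmem : ∀ x, x ∈ sSup c ↔ ∃ T : c, x ∈ T.1 := fun x => by
    rw [sSup_eq_iSup', ← SetLike.mem_coe, Subalgebra.coe_iSup_of_directed hdir, Set.mem_iUnion]
    rfl
  have hle : ∀ T : c, T.1 ≤ sSup c := fun T => le_sSup T.2
  refine ⟨fun s hs => ?_, fun x hx => ?_, fun y hy => ?_⟩
  · obtain ⟨T, hT⟩ : ∃ T : c, (↑s : Set Ω) ⊆ T.1 := by
      clear hle
      induction s using Finset.induction_on with
      | empty => exact ⟨Classical.arbitrary c, by simp⟩
      | insert a s ha ih =>
        rw [Finset.coe_insert, Set.insert_subset_iff] at hs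
        obtain ⟨T₁, h₁⟩ := ih hs.2
        obtain ⟨T₂, h₂⟩ := (hmem a).mp hs.1
        obtain ⟨T₃, h13, h23⟩ := hdir T₁ T₂
        exact ⟨T₃, by rw [Finset.coe_insert, Set.insert_subset_iff]; exact ⟨h23 h₂, h₁.trans h13⟩⟩
    obtain ⟨S, hST, h⟩ := (hc T.1 T.2).fin s hT
    exact ⟨S, hST.trans (hle T), h⟩
  · obtain ⟨T, hT⟩ := (hmem x).mp hx
    rcases (hc T.1 T.2).max x hT with ⟨y, hy, h⟩ | ⟨a, ha, b, hb, h⟩
    · exact Or.inl ⟨y, hle T hy, h⟩
    · exact Or.inr ⟨a, hle T ha, b, hle T hb, h⟩
  · obtain ⟨T, hT⟩ := (hmem y).mp hy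
    obtain ⟨m, r, w, hw, h⟩ := (hc T.1 T.2).insep y hT
    exact ⟨m, r, w, hle T hw, h⟩

/-- The local structure of a good subalgebra. -/
theorem Good.structure' {T : Subalgebra R Ω} (hT : Good ϖ p T) (hinj : Function.Injective (algebraMap R Ω))
    (hϖ : Irreducible ϖ) :
    ∃ _ : HenselianLocalRing T, IsLocalHom (algebraMap R T) ∧
      maximalIdeal T = Ideal.span {algebraMap R T ϖ} ∧ IsDiscreteValuationRing T := by
  haveI := hT.isIntegral
  obtain ⟨hH, hloc, -⟩ := Groth.Agent.S1964.result R T
  haveI := hH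
  haveI := hloc
  let t := algebraMap R T ϖ
  have htu : ¬ IsUnit t := fun h => hϖ.not_isUnit ((isUnit_map_iff _ ϖ).mp h)
  have ht0 : t ≠ 0 := fun h => hϖ.ne_zero (hinj (by rw [map_zero]; exact congrArg Subtype.val h))
  have hspan : maximalIdeal T = Ideal.span {t} := by
    refine le_antisymm (fun x hx => ?_) ((Ideal.span_singleton_le_iff_mem _).mpr ((mem_maximalIdeal _).mpr htu))
    rcases hT.max x.1 x.2 with ⟨y, hy, h⟩ | ⟨a, ha, b, hb, h⟩
    · exact Ideal.mem_span_singleton.mpr ⟨⟨y, hy⟩, Subtype.ext h.symm⟩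
    · exfalso
      have h1 : (⟨a, ha⟩ : T) * x - t * ⟨b, hb⟩ = 1 := Subtype.ext (by
        show a * x.1 - algebraMap R Ω ϖ * b = 1
        rw [h]; ring)
      have h2 : (1 : T) ∈ maximalIdeal T :=
        h1 ▸ sub_mem (Ideal.mul_mem_left _ _ hx) (Ideal.mul_mem_right _ _ ((mem_maximalIdeal _).mpr htu))
      exact (maximalIdeal.isMaximal T).ne_top ((Ideal.eq_top_iff_one _).mpr h2)
  have hprime : Prime t := by
    rw [← Ideal.span_singleton_prime ht0, ← hspan]
    exact (maximalIdeal.isMaximal T).isPrime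
  refine ⟨hH, hloc, hspan, IsDiscreteValuationRing.ofHasUnitMulPowIrreducibleFactorization ⟨t, hprime.irreducible, ?_⟩⟩
  intro x hx
  obtain ⟨a, ha, ha0⟩ := Submodule.exists_mem_ne_zero_of_ne_bot
    (Ideal.comap_ne_bot_of_integral_mem (I := Ideal.span {x}) hx (Ideal.mem_span_singleton_self x)
      (Algebra.IsIntegral.isIntegral (R := R) x))
  obtain ⟨n, ε, rfl⟩ := IsDiscreteValuationRing.eq_unit_mul_pow_irreducible ha0 hϖ
  have hdvd : x ∣ t ^ n := by
    have h1 : x ∣ algebraMap R T ((ε : R) * ϖ ^ n) := Ideal.mem_span_singleton.mp ha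
    rw [map_mul, map_pow] at h1
    exact ((ε.isUnit.map (algebraMap R T)).dvd_mul_left).mp h1
  obtain ⟨i, -, hi⟩ := (dvd_prime_pow hprime n).mp hdvd
  exact ⟨i, hi.symm⟩

variable {T : Subalgebra R Ω}

/-- Adjoining the `p`-th root of a unit with non-`p`-th-power residue. -/
theorem Good.adjoin (hT : Good ϖ p T) (hinj : Function.Injective (algebraMap R Ω)) (hϖ : Irreducible ϖ)
    (hp : p.Prime) (hpR : (p : R) ∈ maximalIdeal R) (u : T)
    (hu : ∀ z : T, z ^ p - u ∉ Ideal.span {algebraMap R T ϖ}) (z : Ω) (hz : z ^ p = u.1) :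
    Good ϖ p ((Algebra.adjoin T {z}).restrictScalars R) := by
  classical
  obtain ⟨hH, hloc, hspan, hdvr⟩ := hT.structure' hinj hϖ
  haveI := hH
  haveI := hdvr
  let t := algebraMap R T ϖ
  let M : Ideal T := Ideal.span {t}
  haveI hM : M.IsMaximal := by
    show (Ideal.span {t}).IsMaximal
    rw [← hspan]
    exact maximalIdeal.isMaximal T
  letI := Ideal.Quotient.field M
  let π := Ideal.Quotient.mk M
  let f : T[X] := X ^ p - C u
  have hfm : f.Monic := monic_X_pow_sub_C _ hp.ne_zero
  have hfz : aeval z f = 0 := by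
    rw [map_sub, map_pow, aeval_X, aeval_C, hz]
    exact sub_self _
  have hfbar : Irreducible (f.map π) := by
    have : f.map π = X ^ p - C (π u) := by simp [f]
    rw [this]
    refine X_pow_sub_C_irreducible_of_prime hp fun b hb => ?_
    obtain ⟨b', rfl⟩ := Ideal.Quotient.mk_surjective b
    exact hu b' (Ideal.Quotient.eq_zero_iff_mem.mp (by rw [map_sub, map_pow, hb, sub_self]))
  have hmemA : ∀ g : T[X], aeval z g ∈ (Algebra.adjoin T {z}).restrictScalars R := fun g => aeval_mem_adjoin_singleton T z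
  have hlift : ∀ g : T[X], g.map π = 0 → ∃ h : T[X], g = C t * h := fun g hg => by
    have h1 : g ∈ RingHom.ker (mapRingHom π) := hg
    rw [Polynomial.ker_mapRingHom, Ideal.mk_ker, Ideal.map_span, Set.image_singleton] at h1
    exact Ideal.mem_span_singleton.mp h1
  refine ⟨fun s hs => ?_, fun x hx => ?_, fun y hy => ?_⟩
  · -- finite free subalgebras
    have hex : ∀ a : s, ∃ g : T[X], aeval z g = a.1 := fun a => by
      have := hs a.2
      rw [SetLike.mem_coe, Subalgebra.mem_restrictScalars, Algebra.adjoin_singleton_eq_range_aeval] at this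
      exact this
    choose g hg using hex
    let cs : Finset Ω := insert u.1 (Finset.univ.biUnion fun a => (g a).coeffs.image Subtype.val)
    have hcs : (↑cs : Set Ω) ⊆ T := by
      intro x hx
      simp only [cs, Finset.coe_insert, Set.mem_insert_iff, Finset.mem_coe, Finset.mem_biUnion, Finset.mem_image] at hx
      rcases hx with rfl | ⟨_, _, c, _, rfl⟩
      · exact u.2
      · exact c.2
    obtain ⟨S, hST, hsS, hfin, hfree, m, hm⟩ := hT.fin cs hcs
    haveI := hfin
    haveI := hfree
    let u' : S := ⟨u.1, hsS (Finset.mem_insert_self _ _)⟩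
    let fS : S[X] := X ^ p - C u'
    have hfSm : fS.Monic := monic_X_pow_sub_C _ hp.ne_zero
    have hfSz : aeval z fS = 0 := by
      rw [map_sub, map_pow, aeval_X, aeval_C, hz]
      exact sub_self _
    have hint : IsIntegral S z := ⟨fS, hfSm, hfSz⟩
    let A := Algebra.adjoin S {z}
    -- irreducibility over the fraction field
    let F := FractionRing T
    letI : Algebra F Ω := (IsFractionRing.lift (K := F) (g := algebraMap T Ω) Subtype.val_injective).toAlgebra
    haveI : IsScalarTower T F Ω := IsScalarTower.of_algebraMap_eq fun x =>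
      (IsFractionRing.lift_algebraMap Subtype.val_injective x).symm
    have hirr : Irreducible (X ^ p - C (algebraMap T F u)) := by
      refine X_pow_sub_C_irreducible_of_prime hp fun b hb => ?_
      obtain ⟨b', rfl⟩ := IsIntegrallyClosed.isIntegral_iff.mp
        (⟨X ^ p - C u, monic_X_pow_sub_C _ hp.ne_zero, by simp [hb]⟩ : IsIntegral T b)
      rw [← map_pow] at hb
      exact hu b' (by rw [IsFractionRing.injective T F hb, sub_self]; exact zero_mem _)
    have hmin : minpoly F z = X ^ p - C (algebraMap T F u) :=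
      (minpoly.eq_of_irreducible_of_monic hirr (by
        rw [map_sub, map_pow, aeval_X, aeval_C, ← IsScalarTower.algebraMap_apply, hz]
        exact sub_self _) (monic_X_pow_sub_C _ hp.ne_zero)).symm
    have hliF : LinearIndependent F fun i : Fin p => z ^ (i : ℕ) := by
      have h1 := linearIndependent_pow (K := F) z
      rw [hmin, natDegree_X_pow_sub_C] at h1
      exact h1
    let v : Fin p → A := fun i => ⟨z ^ (i : ℕ), pow_mem (Algebra.self_mem_adjoin_singleton S z) _⟩
    have hli : LinearIndependent S v := by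
      rw [Fintype.linearIndependent_iff] at hliF ⊢
      intro c hc i
      have h1 := hliF (fun i => algebraMap T F (Subalgebra.inclusion hST (c i))) (by
        have h2 := congrArg (fun a : A => (a : Ω)) hc
        simp only [AddSubmonoidClass.coe_finset_sum, Subalgebra.coe_smul, ZeroMemClass.coe_zero] at h2
        refine Eq.trans (Finset.sum_congr rfl fun j _ => ?_) h2
        rw [algebraMap_smul]
        rfl) i
      rw [map_eq_zero_iff _ (IsFractionRing.injective T F)] at h1
      exact Subtype.ext (congrArg Subtype.val h1 :)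
    have hsp : ⊤ ≤ Submodule.span S (Set.range v) := by
      rintro ⟨a, ha'⟩ -
      have ha : a ∈ Algebra.adjoin S {z} := ha'
      rw [Algebra.adjoin_singleton_eq_range_aeval] at ha
      obtain ⟨q, rfl⟩ := ha
      rw [Submodule.mem_span_range_iff_exists_fun]
      refine ⟨fun i => (q %ₘ fS).coeff i, Subtype.ext ?_⟩
      simp only [AddSubmonoidClass.coe_finset_sum, Subalgebra.coe_smul]
      have hdeg : (q %ₘ fS).natDegree < p := by
        have := natDegree_modByMonic_lt q hfSm (fun h1 => by
          have := congrArg natDegree h1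
          simp [fS, natDegree_X_pow_sub_C, hp.ne_zero] at this)
        simpa [fS, natDegree_X_pow_sub_C] using this
      calc ∑ i : Fin p, (q %ₘ fS).coeff i • z ^ (i : ℕ)
          = aeval z (q %ₘ fS) := by
            rw [aeval_eq_sum_range' hdeg, Finset.sum_range]
        _ = aeval z q := aeval_modByMonic_eq_self_of_root hfSz
    let bA := Module.Basis.mk hli hsp
    haveI : Module.Finite S A := Module.Finite.of_basis bA
    haveI : Module.Free S A := Module.Free.of_basis bA
    have hrank : Module.finrank R A = p ^ (m + 1) := by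
      rw [← Module.finrank_mul_finrank R S A, hm, Module.finrank_eq_card_basis bA, Fintype.card_fin, pow_succ]
    refine ⟨A.restrictScalars R, ?_, ?_, ?_, ?_, m + 1, hrank⟩
    · intro x hx
      refine Algebra.adjoin_induction (fun a ha => Algebra.subset_adjoin ha) (fun r => ?_) (fun a b _ _ ha hb => add_mem ha hb)
        (fun a b _ _ ha hb => mul_mem ha hb) hx
      exact Subalgebra.algebraMap_mem (Algebra.adjoin T {z}) (⟨r.1, hST r.2⟩ : T)
    · intro a ha
      show a ∈ A
      suffices H : aeval z (g ⟨a, ha⟩) ∈ A by rwa [hg ⟨a, ha⟩] at H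
      rw [aeval_eq_sum_range]
      refine sum_mem fun i _ => ?_
      have hc : ((g ⟨a, ha⟩).coeff i : Ω) ∈ S := by
        by_cases h0 : (g ⟨a, ha⟩).coeff i = 0
        · rw [h0]; exact zero_mem _
        · exact hsS (Finset.mem_insert_of_mem (Finset.mem_biUnion.mpr
            ⟨⟨a, ha⟩, Finset.mem_univ _, Finset.mem_image_of_mem _ (coeff_mem_coeffs h0)⟩))
      rw [Algebra.smul_def]
      exact mul_mem (Subalgebra.algebraMap_mem A (⟨_, hc⟩ : S)) (pow_mem (Algebra.self_mem_adjoin_singleton S z) _)
    · exact Module.Finite.trans (R := R) S A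
    · exact Module.Free.trans (R := R) (S := S) (M := A)
  · -- maximality of the uniformiser
    rw [Subalgebra.mem_restrictScalars, Algebra.adjoin_singleton_eq_range_aeval] at hx
    obtain ⟨g, rfl⟩ := hx
    rcases em (f.map π ∣ g.map π) with hd | hd
    · obtain ⟨q, hq⟩ := hd
      obtain ⟨q', rfl⟩ := Polynomial.map_surjective π Ideal.Quotient.mk_surjective q
      obtain ⟨h, hh⟩ := hlift (g - f * q') (by rw [Polynomial.map_sub, Polynomial.map_mul, hq, sub_self])
      refine Or.inl ⟨aeval z h, hmemA h, ?_⟩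
      have := congrArg (aeval z) hh
      rw [map_sub, map_mul, map_mul, hfz, zero_mul, sub_zero, aeval_C] at this
      exact this.symm
    · obtain ⟨a, b, hab⟩ := hfbar.coprime_iff_not_dvd.mpr hd
      obtain ⟨a', rfl⟩ := Polynomial.map_surjective π Ideal.Quotient.mk_surjective a
      obtain ⟨b', rfl⟩ := Polynomial.map_surjective π Ideal.Quotient.mk_surjective b
      obtain ⟨h, hh⟩ := hlift (a' * f + b' * g - 1)
        (by rw [Polynomial.map_sub, Polynomial.map_add, Polynomial.map_mul, Polynomial.map_mul, hab, Polynomial.map_one,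
          sub_self])
      refine Or.inr ⟨aeval z b', hmemA b', aeval z h, hmemA h, ?_⟩
      have := congrArg (aeval z) hh
      rw [map_sub, map_add, map_mul, map_mul, map_mul, map_one, hfz, mul_zero, zero_add, aeval_C, sub_eq_iff_eq_add'] at this
      exact this
  · -- residues
    rw [Subalgebra.mem_restrictScalars, Algebra.adjoin_singleton_eq_range_aeval] at hy
    obtain ⟨g, rfl⟩ := hy
    let A := Algebra.adjoin T {z}
    let y' : A := ⟨aeval z g, aeval_mem_adjoin_singleton T z⟩
    let z' : A := ⟨z, Algebra.self_mem_adjoin_singleton T z⟩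
    let J : Ideal A := Ideal.span {algebraMap T A t}
    let tt : T := ∑ i ∈ Finset.range (g.natDegree + 1), g.coeff i ^ p * u ^ i
    obtain ⟨m, c, w, hw, hmw⟩ := hT.insep tt.1 tt.2
    have hcJ : algebraMap T A (algebraMap R T c) - y' ^ p ^ (m + 1) ∈ J := by
      by_cases hJ : J = ⊤
      · rw [hJ]; trivial
      haveI : Nontrivial (A ⧸ J) := Ideal.Quotient.nontrivial_iff.mpr hJ
      haveI : CharP (A ⧸ J) p := by
        obtain ⟨k, hk⟩ : ϖ ∣ (p : R) := by
          rw [← Ideal.mem_span_singleton, ← (IsDiscreteValuationRing.irreducible_iff_uniformizer ϖ).mp hϖ]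
          exact hpR
        have h0 : (p : A ⧸ J) = 0 := by
          rw [← map_natCast (Ideal.Quotient.mk J) p, Ideal.Quotient.eq_zero_iff_mem, ← map_natCast (algebraMap T A) p,
            ← map_natCast (algebraMap R T) p, hk, map_mul, map_mul]
          exact Ideal.mul_mem_right _ _ (Ideal.mem_span_singleton_self _)
        exact (CharP.charP_iff_prime_eq_zero hp).mpr h0
      haveI := Fact.mk hp
      rw [← Ideal.Quotient.eq]
      have h1 : Ideal.Quotient.mk J (algebraMap T A (algebraMap R T c)) = Ideal.Quotient.mk J (algebraMap T A tt) ^ p ^ m := by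
        rw [← map_pow, ← map_pow, Ideal.Quotient.eq, ← map_sub]
        refine Ideal.mem_span_singleton.mpr ⟨algebraMap T A ⟨w, hw⟩, ?_⟩
        rw [← map_mul]
        exact congrArg _ (Subtype.ext hmw)
      rw [h1, map_pow, pow_succ', pow_mul]
      congr 1
      have hy' : y' = ∑ i ∈ Finset.range (g.natDegree + 1), algebraMap T A (g.coeff i) * z' ^ i := by
        refine Subtype.ext ?_
        simp only [AddSubmonoidClass.coe_finset_sum, MulMemClass.coe_mul, SubmonoidClass.coe_pow]
        show aeval z g = _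
        rw [aeval_eq_sum_range]
        exact Finset.sum_congr rfl fun i _ => Algebra.smul_def _ _
      simp only [hy', tt, map_sum]
      haveI : ExpChar (A ⧸ J) p := ExpChar.prime hp
      refine Eq.trans ?_ (map_sum (frobenius (A ⧸ J) p) _ _).symm
      simp only [frobenius_def]
      refine Finset.sum_congr rfl fun i _ => ?_
      have hzu : z' ^ p = algebraMap T A u := Subtype.ext hz
      rw [← map_pow (Ideal.Quotient.mk J)]
      congr 1
      rw [map_mul, mul_pow, map_pow, map_pow, ← pow_mul, mul_comm i p, pow_mul, hzu]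
    obtain ⟨w', hw'⟩ := Ideal.mem_span_singleton.mp hcJ
    exact ⟨m + 1, c, w'.1, w'.2, congrArg Subtype.val hw'⟩

end

end Groth.Agent.PInsepDVR
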